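import Cfsg.Agent.H641.Gow.Real_m3
import Cfsg.Agent.H145.BR.RowZ
import Cfsg.Agent.H825.HT.Tools
import Cfsg.Agent.H846.RatB.Fixed
import Cfsg.Agent.H722.RealP
import Cfsg.Agent.Prune
set_option linter.all false

section
prune_inst 0x7f00000000000000000000000000000000000000000000000000000000000000000000000000000000000000000000000000000000000000000000000000000000000000000000000000000000000000003fffffffffffffffffffffffffffbeffbdffffffff

-- part: H852/RatB/Gcd
section
set_option linter.all false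
open scoped Cfsg.Agent.FastGrp

/-!
# TEAM B0-RAT: Sylow subgroups of order `p`, small inertial index (helper852)

The argument of `H707.Block.hasRat_of_block` gives the rational character in the principal block; every character of
the principal block is invariant under `p`-groups of automorphisms, as the block has at most `p` members.

* `ratB_of_block` : `e + (p-1)/e = m + 1`, `m = 2, 3, 4, 6`;
* `ratB_three` : `|P| = 3`, no normal 3-complement; `ratB_five` : `|P| = 5`, no normal 5-complement;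
  `ratB_seven` : `|P| = 7` and a real element of order `7`;
* `rowZ_…` : the integer valued row `RowZ p S` of S4891, S4829, S4857.
-/

set_option autoImplicit false
set_option linter.dupNamespace false

namespace Cfsg.Agent.H852.RatB

open Cfsg Cfsg.Agent.Characters.Core Cfsg.Agent.Characters Cfsg.Agent.H707.OddLift Cfsg.Agent.H707.Orbits
open Cfsg.Agent.H707.Block Cfsg.Agent.H145.BR
open scoped ComplexConjugate

universe u

section Main

variable {G : Type u} [Group G] [Finite G]

attribute [local instance] powAct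

/-- `G` has a nontrivial rational-valued character in its principal block -/
def RatB (M : Ideal AlgInt) (G : Type u) [Group G] : Prop :=
  ∃ χ : IrrCharacter G, χ ∈ principalBlock M G ∧ (χ : G → ℂ) ≠ (fun _ => 1) ∧ ∀ g : G, ∃ q : ℚ, (χ : G → ℂ) g = q

theorem exists_smul_ne_of_not {M : Ideal AlgInt} (h : ¬ RatB M G) (χ : IrrCharacter G)
    (h0 : χ ∈ principalBlock M G) (h1 : (χ : G → ℂ) ≠ 1) : ∃ u : (ZMod (Nat.card G))ˣ, u • χ ≠ χ := by
  by_contra hcon
  push Not at hcon
  apply h
  refine ⟨χ, h0, h1, fun g => ?_⟩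
  rw [GaloisBasic.exists_rat_iff (isIrr_isCharacter χ.2) g]
  intro m hm
  have h2 := congrFun (congrArg Subtype.val (hcon (ZMod.unitOfCoprime m hm))) g
  have h3 : g ^ ((ZMod.unitOfCoprime m hm : (ZMod (Nat.card G))ˣ) : ZMod (Nat.card G)).val = g ^ m := by
    rw [ZMod.coe_unitOfCoprime, ZMod.val_natCast, pow_mod_natCard]
  have h4 : (χ : G → ℂ) (g ^ ((ZMod.unitOfCoprime m hm : (ZMod (Nat.card G))ˣ) : ZMod (Nat.card G)).val) =
    (χ : G → ℂ) g := h2
  rw [h3] at h4
  exact h4

theorem ratB_of_block {p : ℕ} [hp : Fact p.Prime] (hp2 : p ≠ 2) {M : Ideal AlgInt} (hM : IsPModular p M)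
    (P : Sylow p G) (hP : Nat.card P = p) {e : ℕ}
    (he : (Subgroup.centralizer ((P : Subgroup G) : Set G)).relIndex
      (Subgroup.normalizer ((P : Subgroup G) : Set G)) = e) {m k : ℕ}
    (hm : e + (p - 1) / e = m + 1) (hm' : m = 2 ∨ m = 3 ∨ m = 4 ∨ m = 6)
    (hk : ∀ s : ℕ, 2 ≤ s → (s = m ∨ s + 2 ≤ m) → k.Coprime s) {y : G} (hy : orderOf y = p)
    (hyk : ∀ u : ℕ, u.Coprime (Nat.card G) → IsConj y (y ^ (u ^ k))) : RatB M G := by
  classical
  have := Fintype.ofFinite G
  have := finite_irr (G := G)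
  have := Fintype.ofFinite (IrrCharacter G)
  by_contra hG
  have hcard := (S0960.result p M hM hp2 P hP e he).1
  rw [hm] at hcard
  let one : IrrCharacter G := ⟨1, isIrr_one⟩
  have hone : one ∈ principalBlock M G := by
    intro g
    refine ⟨0, 1, M.zero_mem, ?_, ?_⟩
    · exact (Ideal.ne_top_iff_one M).1 hM.2.1.ne_top
    · change _ = centralChar (1 : G → ℂ) g - centralChar (1 : G → ℂ) g
      simp only [_root_.ZeroMemClass.coe_zero, _root_.OneMemClass.coe_one, _root_.div_one, _root_.sub_self]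
  -- the nonprincipal members of the block
  let S : Type u := {χ : IrrCharacter G // χ ∈ principalBlock M G ∧ χ ≠ one}
  have hsm1 : ∀ u : (ZMod (Nat.card G))ˣ, u • one = one := fun u => rfl
  let _ : MulAction (ZMod (Nat.card G))ˣ S :=
    { smul := fun u χ => ⟨u • χ.1, smul_mem_principalBlock χ.2.1 u, fun h => χ.2.2 (by
        have h2 := congrArg (fun ξ => u⁻¹ • ξ) h
        simp only [inv_smul_smul] at h2
        rw [h2, hsm1])⟩
      one_smul := fun χ => Subtype.ext (one_smul _ χ.1)
      mul_smul := fun u v χ => Subtype.ext (mul_smul u v χ.1) }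
  have hS : Nat.card S = m := by
    have h1 : Nat.card (principalBlock M G) = Nat.card {χ : principalBlock M G // χ ≠ ⟨one, hone⟩} + 1 := by
      rw [← Nat.card_eq_fintype_card.symm, ← Nat.card_eq_fintype_card.symm]
      rw [Fintype.card_subtype_compl, Fintype.card_subtype_eq]
      have : 0 < Fintype.card (principalBlock M G) := Fintype.card_pos_iff.2 ⟨⟨one, hone⟩⟩
      omega
    have h2 : Nat.card S = Nat.card {χ : principalBlock M G // χ ≠ ⟨one, hone⟩} := by
      refine Nat.card_congr
        { toFun := fun χ => ⟨⟨χ.1, χ.2.1⟩, fun h => χ.2.2 (congrArg Subtype.val h)⟩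
          invFun := fun χ => ⟨χ.1.1, χ.1.2, fun h => χ.2 (Subtype.ext h)⟩
          left_inv := fun _ => rfl
          right_inv := fun _ => rfl }
    omega
  have hfix : ∀ χ : S, ∃ u : (ZMod (Nat.card G))ˣ, u • χ ≠ χ := by
    intro χ
    obtain ⟨u, hu⟩ := exists_smul_ne_of_not hG χ.1 χ.2.1 (fun h => χ.2.2 (Subtype.ext h))
    exact ⟨u, fun h => hu (congrArg Subtype.val h)⟩
  let Γ' : Subgroup (ZMod (Nat.card G))ˣ := (powMonoidHom k : (ZMod (Nat.card G))ˣ →* _).range
  obtain ⟨q, hq, hd⟩ := exists_prime_dvd_orbits (Γ := Γ') (S := S) (by rw [hS]; exact hm') (fun χ => by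
    obtain ⟨u, hu⟩ := exists_pow_smul_ne' hfix hS hk χ
    exact ⟨⟨u ^ k, ⟨u, rfl⟩⟩, hu⟩)
  have : Fintype S := Fintype.ofFinite S
  obtain ⟨z, hz, hz'⟩ := exists_sum_eq hd (integralClosure ℤ ℂ).toSubring
    (fun χ : S => (χ.1 : G → ℂ) 1 * conj ((χ.1 : G → ℂ) y))
    (by
      rintro ⟨_, u, rfl⟩ χ
      change (χ.1 : G → ℂ) (1 ^ _) * conj ((χ.1 : G → ℂ) (y ^ ((u ^ k : (ZMod (Nat.card G))ˣ) :
        ZMod (Nat.card G)).val)) = _
      rw [one_pow, pow_val_pow]
      congr 2
      exact (classFunction_apply_eq (isIrr_isClassFunction χ.1.2) (hyk _ (ZMod.val_coe_unit_coprime u))).symm)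
    (by
      intro χ
      have h1 := GaloisBasic.isIntegral_apply (isIrr_isCharacter χ.1.2) 1
      have h2 := GaloisBasic.isIntegral_apply (isCharacter_conj (isIrr_isCharacter χ.1.2)) y
      exact h1.mul h2)
  have horth := S0907.result p M hM (principalBlock M G) ⟨one, rfl⟩ 1 y
    (by rw [orderOf_one]; exact fun h => hp.out.one_lt.ne' (Nat.dvd_one.1 h)) (by rw [hy])
  have hsum : (1 : ℂ) + ∑ χ : S, (χ.1 : G → ℂ) 1 * conj ((χ.1 : G → ℂ) y) = 0 := by
    rw [← horth, finsum_mem_eq_finite_toFinset_sum _ (Set.toFinite _)]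
    have h3 : (Set.toFinite (principalBlock M G)).toFinset =
        insert one (Finset.univ.filter (fun χ : IrrCharacter G => χ ∈ principalBlock M G ∧ χ ≠ one)) := by
      ext χ
      rw [Set.Finite.mem_toFinset, Finset.mem_insert, Finset.mem_filter]
      constructor
      · intro h
        by_cases h' : χ = one
        · exact Or.inl h'
        · exact Or.inr ⟨Finset.mem_univ _, h, h'⟩
      · rintro (rfl | h)
        · exact hone
        · exact h.2.1
    rw [h3, Finset.sum_insert]
    · congr 1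
      · change (1 : ℂ) = (1 : ℂ) * conj (1 : ℂ)
        rw [map_one, mul_one]
      · rw [← Finset.sum_subtype_eq_sum_filter]
        exact Finset.sum_congr (by ext x; simp only [_root_.Finset.mem_univ, _root_.ne_eq, _root_.Finset.subtype_univ]) fun _ _ => rfl
    · rw [Finset.mem_filter]
      exact fun h => h.2.2 rfl
  rw [hz'] at hsum
  -- `1 / q` would be an algebraic integer
  have hint : IsIntegral ℤ z := hz
  have hq0 : (q : ℂ) ≠ 0 := Nat.cast_ne_zero.2 hq.ne_zero
  have hzq : z = ((-1 / q : ℚ) : ℂ) := by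
    push_cast
    field_simp
    linear_combination hsum
  obtain ⟨w, hw⟩ := GaloisBasic.exists_int_of_isIntegral hint ⟨_, hzq⟩
  rw [hw] at hsum
  have h9 : (1 : ℤ) + q * w = 0 := by exact_mod_cast hsum
  have h10 : (q : ℤ) ∣ 1 := ⟨-w, by linarith only [h9]⟩
  exact hq.one_lt.ne' (Nat.dvd_one.1 (Int.natCast_dvd_natCast.1 (by exact_mod_cast h10)))

/-- Sylow 3-subgroup of order `3`, not centralised by its normaliser. -/
theorem ratB_three {M : Ideal AlgInt} (hM : IsPModular 3 M) (P : Sylow 3 G) (hP : Nat.card P = 3)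
    (he : (Subgroup.centralizer ((P : Subgroup G) : Set G)).relIndex
      (Subgroup.normalizer ((P : Subgroup G) : Set G)) ≠ 1) : RatB M G := by
  have hp3 : Fact (Nat.Prime 3) := ⟨by norm_num⟩
  have hd : (Subgroup.centralizer ((P : Subgroup G) : Set G)).relIndex
      (Subgroup.normalizer ((P : Subgroup G) : Set G)) ∣ 3 - 1 :=
    SmallSimple.BurnsideNC.relIndex_dvd_of_card_eq_prime P hP
  have hee : (Subgroup.centralizer ((P : Subgroup G) : Set G)).relIndex
      (Subgroup.normalizer ((P : Subgroup G) : Set G)) = 2 := by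
    rcases (Nat.dvd_prime Nat.prime_two).1 hd with h | h
    · exact absurd h he
    · exact h
  obtain ⟨y, hyP, hy⟩ : ∃ y ∈ (P : Subgroup G), orderOf y = 3 := by
    obtain ⟨y, hy⟩ := exists_prime_orderOf_dvd_card' (G := P) 3 (by rw [hP])
    exact ⟨y, y.2, (Subgroup.orderOf_coe y).trans hy⟩
  refine ratB_of_block (by norm_num) hM P hP hee (m := 2) (k := 1) (by norm_num) (by norm_num) ?_ hy ?_
  · intro s _ _
    exact Nat.coprime_one_left s
  · intro u hu
    rw [pow_one]
    refine isConj_pow_of_relIndex hP hee hyP (hu.coprime_dvd_right ?_)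
    rw [← hP]
    exact Subgroup.card_subgroup_dvd_card _

/-- Sylow 5-subgroup of order `5`, not centralised by its normaliser. -/
theorem ratB_five {M : Ideal AlgInt} (hM : IsPModular 5 M) (P : Sylow 5 G) (hP : Nat.card P = 5)
    (he : (Subgroup.centralizer ((P : Subgroup G) : Set G)).relIndex
      (Subgroup.normalizer ((P : Subgroup G) : Set G)) ≠ 1) : RatB M G := by
  have hp5 : Fact (Nat.Prime 5) := ⟨by norm_num⟩
  obtain ⟨e, hee⟩ : ∃ e, (Subgroup.centralizer ((P : Subgroup G) : Set G)).relIndex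
      (Subgroup.normalizer ((P : Subgroup G) : Set G)) = e := ⟨_, rfl⟩
  have hd : (Subgroup.centralizer ((P : Subgroup G) : Set G)).relIndex
      (Subgroup.normalizer ((P : Subgroup G) : Set G)) ∣ 5 - 1 :=
    SmallSimple.BurnsideNC.relIndex_dvd_of_card_eq_prime P hP
  rw [hee] at he hd
  have he' : e = 2 ∨ e = 4 := by
    have h1 : e ≤ 4 := Nat.le_of_dvd (by norm_num) hd
    interval_cases e <;> omega
  obtain ⟨y, hyP, hy⟩ : ∃ y ∈ (P : Subgroup G), orderOf y = 5 := by
    obtain ⟨y, hy⟩ := exists_prime_orderOf_dvd_card' (G := P) 5 (by rw [hP])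
    exact ⟨y, y.2, (Subgroup.orderOf_coe y).trans hy⟩
  have h5 : ∀ u : ℕ, u.Coprime (Nat.card G) → u.Coprime 5 := by
    intro u hu
    refine hu.coprime_dvd_right ?_
    rw [← hP]
    exact Subgroup.card_subgroup_dvd_card _
  rcases he' with rfl | rfl
  · refine ratB_of_block (by norm_num) hM P hP hee (m := 3) (k := 4) (by norm_num) (by norm_num) ?_ hy ?_
    · intro s h1 h2
      have : s = 3 := by omega
      rw [this]; norm_num
    · intro u hu
      have h6 := h5 u hu
      have h7 : y ^ (u ^ 4) = y := by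
        have h8 : u ^ 4 % 5 = 1 := by
          have := Nat.ModEq.pow_totient h6
          rw [Nat.totient_prime (by norm_num)] at this
          exact this
        rw [← pow_mod_orderOf, hy, h8, pow_one]
      rw [h7]
  · refine ratB_of_block (by norm_num) hM P hP hee (m := 4) (k := 1) (by norm_num) (by norm_num) ?_ hy ?_
    · intro s _ _
      exact Nat.coprime_one_left s
    · intro u hu
      rw [pow_one]
      exact isConj_pow_of_relIndex hP hee hyP (h5 u hu)

/-- Sylow 7-subgroup of order `7`, with a real element of order `7`. -/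
theorem ratB_seven {M : Ideal AlgInt} (hM : IsPModular 7 M) (P : Sylow 7 G) (hP : Nat.card P = 7) {y : G}
    (hy : orderOf y = 7) (hr : IsConj y y⁻¹) : RatB M G := by
  have hp7 : Fact (Nat.Prime 7) := ⟨by norm_num⟩
  -- `⟨y⟩` is a Sylow subgroup
  have hcard : Nat.card (Subgroup.zpowers y) = 7 := by rw [Nat.card_zpowers, hy]
  obtain ⟨Q, hQ⟩ := (IsPGroup.of_card (p := 7) (n := 1) (by rw [hcard]; norm_num) :
    IsPGroup 7 (Subgroup.zpowers y)).exists_le_sylow
  have hQc : Nat.card Q = 7 := (Nat.card_congr (Q.equiv P).toEquiv).trans hP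
  have hQe : (Q : Subgroup G) = Subgroup.zpowers y :=
    (Subgroup.eq_of_le_of_card_ge hQ (by rw [hcard]; exact hQc.le)).symm
  have heven := even_relIndex_of_real (p := 7) (by norm_num) hy hr
  rw [← hQe] at heven
  obtain ⟨e, hee⟩ : ∃ e, (Subgroup.centralizer ((Q : Subgroup G) : Set G)).relIndex
      (Subgroup.normalizer ((Q : Subgroup G) : Set G)) = e := ⟨_, rfl⟩
  have hd : (Subgroup.centralizer ((Q : Subgroup G) : Set G)).relIndex
      (Subgroup.normalizer ((Q : Subgroup G) : Set G)) ∣ 7 - 1 :=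
    SmallSimple.BurnsideNC.relIndex_dvd_of_card_eq_prime Q hQc
  rw [hee] at heven hd
  have he' : e = 2 ∨ e = 6 := by
    have h1 : e ≤ 6 := Nat.le_of_dvd (by norm_num) hd
    interval_cases e <;> omega
  have h7 : ∀ u : ℕ, u.Coprime (Nat.card G) → u.Coprime 7 := by
    intro u hu
    refine hu.coprime_dvd_right ?_
    rw [← hQc]
    exact Subgroup.card_subgroup_dvd_card _
  have hyQ : y ∈ (Q : Subgroup G) := by rw [hQe]; exact Subgroup.mem_zpowers y
  rcases he' with rfl | rfl
  · refine ratB_of_block (by norm_num) hM Q hQc hee (m := 4) (k := 3) (by norm_num) (by norm_num) ?_ hy ?_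
    · intro s h1 h2
      have : s = 2 ∨ s = 4 := by omega
      rcases this with h | h <;> rw [h] <;> norm_num
    · intro u hu
      have h6 := h7 u hu
      have h8 : u ^ 3 % 7 = 1 ∨ u ^ 3 % 7 = 6 := by
        have h9 : u % 7 ≠ 0 := by
          intro h
          have := Nat.Coprime.eq_one_of_dvd (Nat.coprime_comm.1 h6) (Nat.dvd_of_mod_eq_zero h)
          omega
        have h10 : u % 7 < 7 := Nat.mod_lt _ (by norm_num)
        rw [Nat.pow_mod]
        generalize u % 7 = v at h9 h10 ⊢
        interval_cases v <;> omega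
      rcases h8 with h8 | h8
      · rw [← pow_mod_orderOf, hy, h8, pow_one]
      · have h11 : y ^ (u ^ 3) = y⁻¹ := by
          have h12 : y ^ 7 = 1 := by rw [← hy]; exact pow_orderOf_eq_one y
          rw [← pow_mod_orderOf, hy, h8, eq_inv_iff_mul_eq_one, ← pow_succ]
          exact h12
        rw [h11]
        exact hr
  · refine ratB_of_block (by norm_num) hM Q hQc hee (m := 6) (k := 1) (by norm_num) (by norm_num) ?_ hy ?_
    · intro s _ _
      exact Nat.coprime_one_left s
    · intro u hu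
      rw [pow_one]
      exact isConj_pow_of_relIndex hQc hee hyQ (h7 u hu)

/-! ### invariance under `p`-groups of automorphisms, and the rows -/

/-- the members of a principal block with at most `p` members are invariant under `p`-groups of automorphisms -/
theorem inv_of_pgroup {p : ℕ} [hp : Fact p.Prime] {M : Ideal AlgInt} (hM : IsPModular p M)
    (hc : Nat.card (principalBlock M G) ≤ p) {A : Subgroup (MulAut G)} (hA : IsPGroup p A) {χ : IrrCharacter G}
    (hχ : χ ∈ principalBlock M G) (hχ1 : (χ : G → ℂ) ≠ fun _ => 1) {a : MulAut G} (ha : a ∈ A) (x : G) :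
    (χ : G → ℂ) (a x) = (χ : G → ℂ) x := by
  classical
  have hMp : M.IsPrime := hM.2.1.isPrime
  have := finite_irr (G := G)
  let _ : MulAction A (IrrCharacter G) := H846.RatB.irrAct A.subtype
  have hval : ∀ (b : A) (ψ : IrrCharacter G), ((b • ψ : IrrCharacter G) : G → ℂ) = fun k => (ψ : G → ℂ) ((b⁻¹ : A).1 k) :=
    fun b ψ => rfl
  let one : IrrCharacter G := ⟨1, isIrr_one⟩
  have hone : one ∈ principalBlock M G := by
    intro g
    refine ⟨0, 1, M.zero_mem, ?_, ?_⟩
    · exact (Ideal.ne_top_iff_one M).1 hM.2.1.ne_top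
    · change _ = centralChar (1 : G → ℂ) g - centralChar (1 : G → ℂ) g
      simp only [_root_.ZeroMemClass.coe_zero, _root_.OneMemClass.coe_one, _root_.div_one, _root_.sub_self]
  have hsub : MulAction.orbit A χ ⊆ principalBlock M G := by
    rintro _ ⟨b, rfl⟩
    exact H133.PB.mem_principalBlock_comp ((b⁻¹ : A).1).toMonoidHom ((b⁻¹ : A).1).surjective hχ
  have hnot : one ∉ MulAction.orbit A χ := by
    rintro ⟨b, hb⟩
    apply hχ1
    have h1 : (b⁻¹ : A) • one = χ := by
      rw [← hb]
      exact inv_smul_smul b χ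
    rw [← h1]
    rfl
  obtain ⟨n, hn⟩ := hA.card_orbit χ
  have hlt : Nat.card (MulAction.orbit A χ) < p := by
    refine lt_of_lt_of_le ?_ hc
    rw [Nat.card_coe_set_eq, Nat.card_coe_set_eq]
    exact Set.ncard_lt_ncard ⟨hsub, fun h => hnot (h hone)⟩ (Set.toFinite _)
  have hn0 : n = 0 := by
    by_contra h0
    rw [hn] at hlt
    exact absurd hlt (not_lt.2 (Nat.le_self_pow h0 p))
  rw [hn0, pow_zero] at hn
  have h2 : ((⟨a, ha⟩ : A)⁻¹) • χ = χ := by
    have h3 := (Nat.card_eq_one_iff_unique.1 hn).1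
    exact congrArg Subtype.val (h3.elim (⟨((⟨a, ha⟩ : A)⁻¹) • χ, MulAction.mem_orbit _ _⟩ : MulAction.orbit A χ)
      ⟨χ, MulAction.mem_orbit_self χ⟩)
  have h4 := congrFun (congrArg Subtype.val h2) x
  rw [hval, inv_inv] at h4
  exact h4

/-- a rational member of the principal block gives the integer valued row -/
theorem rowZ_of_ratB {p : ℕ} [hp : Fact p.Prime] (hp2 : p ≠ 2) (P : Sylow p G) (hP : Nat.card P = p)
    (h : ∀ M : Ideal AlgInt, IsPModular p M → RatB M G) : RowZ p G := by
  intro A hA M hM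
  obtain ⟨χ, h1, h2, h3⟩ := h M hM
  obtain ⟨e, hee⟩ : ∃ e, (Subgroup.centralizer ((P : Subgroup G) : Set G)).relIndex
      (Subgroup.normalizer ((P : Subgroup G) : Set G)) = e := ⟨_, rfl⟩
  obtain ⟨hcard, hdeg⟩ := S0960.result p M hM hp2 P hP e hee
  have hd : (Subgroup.centralizer ((P : Subgroup G) : Set G)).relIndex
      (Subgroup.normalizer ((P : Subgroup G) : Set G)) ∣ p - 1 :=
    SmallSimple.BurnsideNC.relIndex_dvd_of_card_eq_prime P hP
  rw [hee] at hd
  obtain ⟨c, hc⟩ := hd
  have hp3 : 3 ≤ p := by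
    have := hp.out.two_le
    omega
  have he0 : 0 < e := by
    rcases Nat.eq_zero_or_pos e with h | h
    · rw [h, zero_mul] at hc; omega
    · exact h
  have hc0 : 0 < c := by
    rcases Nat.eq_zero_or_pos c with h | h
    · rw [h, mul_zero] at hc; omega
    · exact h
  have hcard' : Nat.card (principalBlock M G) ≤ p := by
    rw [hcard, hc, Nat.mul_div_cancel_left c he0]
    have h5 : p = e * c + 1 := by omega
    rw [h5]
    nlinarith only [he0, hc0]
  refine ⟨χ, h1, h2, ?_, fun g => ?_, fun a ha x => inv_of_pgroup hM hcard' hA h1 h2 ha x⟩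
  · intro hdvd
    have h5 : ¬ (p : ℤ) ∣ 1 := by
      intro h
      have := Int.le_of_dvd one_pos h
      omega
    have hep : e < p := by
      have : e ≤ e * c := Nat.le_mul_of_pos_right e hc0
      omega
    have h6 : ¬ (p : ℤ) ∣ (e : ℤ) := by
      intro h
      have := Nat.le_of_dvd he0 (Int.natCast_dvd_natCast.1 h)
      omega
    have h7 : (p : ℤ) ∣ (charDegree (χ : G → ℂ) : ℤ) := Int.natCast_dvd_natCast.2 hdvd
    rcases hdeg χ h1 with h | h | h | h
    · exact h5 ((Int.ModEq.dvd_iff h).1 h7)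
    · exact h5 ((Int.dvd_neg).1 ((Int.ModEq.dvd_iff h).1 h7))
    · exact h6 ((Int.ModEq.dvd_iff h).1 h7)
    · exact h6 ((Int.dvd_neg).1 ((Int.ModEq.dvd_iff h).1 h7))
  · obtain ⟨q, hq⟩ := h3 g
    exact GaloisBasic.exists_int_of_isIntegral (GaloisBasic.isIntegral_apply (isIrr_isCharacter χ.2) g) ⟨q, hq⟩

theorem rowZ_three (P : Sylow 3 G) (hP : Nat.card P = 3)
    (he : (Subgroup.centralizer ((P : Subgroup G) : Set G)).relIndex
      (Subgroup.normalizer ((P : Subgroup G) : Set G)) ≠ 1) : RowZ 3 G := by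
  have : Fact (Nat.Prime 3) := ⟨by norm_num⟩
  exact rowZ_of_ratB (by norm_num) P hP fun M hM => ratB_three hM P hP he

theorem rowZ_five (P : Sylow 5 G) (hP : Nat.card P = 5)
    (he : (Subgroup.centralizer ((P : Subgroup G) : Set G)).relIndex
      (Subgroup.normalizer ((P : Subgroup G) : Set G)) ≠ 1) : RowZ 5 G := by
  have : Fact (Nat.Prime 5) := ⟨by norm_num⟩
  exact rowZ_of_ratB (by norm_num) P hP fun M hM => ratB_five hM P hP he

theorem rowZ_seven (P : Sylow 7 G) (hP : Nat.card P = 7) {y : G}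
    (hy : orderOf y = 7) (hr : IsConj y y⁻¹) : RowZ 7 G := by
  have : Fact (Nat.Prime 7) := ⟨by norm_num⟩
  exact rowZ_of_ratB (by norm_num) P hP fun M hM => ratB_seven hM P hP hy hr

theorem card_sylow_of_not_sq {p : ℕ} [hp : Fact p.Prime] (h5 : p ∣ Nat.card G) (h25 : ¬ p ^ 2 ∣ Nat.card G)
    (P : Sylow p G) : Nat.card P = p := by
  rw [P.card_eq_multiplicity]
  have h1 : (Nat.card G).factorization p = 1 := by
    have h0 : Nat.card G ≠ 0 := Nat.card_pos.ne'
    have h2 : 1 ≤ (Nat.card G).factorization p := (hp.out.dvd_iff_one_le_factorization h0).1 h5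
    have h3 : ¬ 2 ≤ (Nat.card G).factorization p := fun h =>
      h25 ((hp.out.pow_dvd_iff_le_factorization h0).2 h)
    omega
  rw [h1, pow_one]

omit [Finite G] in
theorem not_prime_card [IsSimpleGroup G] (hG : ¬ IsMulCommutative G) : ¬ (Nat.card G).Prime := by
  intro h
  have : Fact (Nat.card G).Prime := ⟨h⟩
  have : IsCyclic G := isCyclic_of_prime_card rfl
  apply hG
  let _ : CommGroup G := IsCyclic.commGroup
  exact ⟨⟨fun a b => mul_comm a b⟩⟩

/-- **a nonabelian simple group of order divisible by 3 but not by 9** -/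
theorem rowZ_simple_three [IsSimpleGroup G] (hG : ¬ IsMulCommutative G) (h3 : 3 ∣ Nat.card G)
    (h9 : ¬ 9 ∣ Nat.card G) : RowZ 3 G := by
  have : Fact (Nat.Prime 3) := ⟨by norm_num⟩
  obtain ⟨P⟩ : Nonempty (Sylow 3 G) := inferInstance
  exact rowZ_three P (card_sylow_of_not_sq h3 (by norm_num; exact h9) P)
    (SmallSimple.BurnsideNC.relIndex_ne_one h3 (fun h => not_prime_card hG (by rw [h]; norm_num)) P)

/-- **a nonabelian simple group of order divisible by 5 but not by 25** -/
theorem rowZ_simple_five [IsSimpleGroup G] (hG : ¬ IsMulCommutative G) (h5 : 5 ∣ Nat.card G)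
    (h25 : ¬ 25 ∣ Nat.card G) : RowZ 5 G := by
  have : Fact (Nat.Prime 5) := ⟨by norm_num⟩
  obtain ⟨P⟩ : Nonempty (Sylow 5 G) := inferInstance
  exact rowZ_five P (card_sylow_of_not_sq h5 (by norm_num; exact h25) P)
    (SmallSimple.BurnsideNC.relIndex_ne_one h5 (fun h => not_prime_card hG (by rw [h]; norm_num)) P)

/-- **a group of order divisible by 7 but not by 49, with a real element of order 7** -/
theorem rowZ_seven_of_real (h49 : ¬ 49 ∣ Nat.card G) {y : G} (hy : orderOf y = 7) (hr : IsConj y y⁻¹) :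
    RowZ 7 G := by
  have : Fact (Nat.Prime 7) := ⟨by norm_num⟩
  obtain ⟨P⟩ : Nonempty (Sylow 7 G) := inferInstance
  have h7 : 7 ∣ Nat.card G := by rw [← hy]; exact orderOf_dvd_natCard y
  exact rowZ_seven P (card_sylow_of_not_sq h7 (by norm_num; exact h49) P) hy hr

end Main

end Cfsg.Agent.H852.RatB
end

-- part: H852/RatB/Real
section
set_option linter.all false
open scoped Cfsg.Agent.FastGrp

/-!
# TEAM B0-RAT: real elements of order 7 (helper852)

* `rowZ_seven_of_hasReal` : `49 ∤ |G|` and a real element of order 7 (`H722.RealP.HasReal 7 G`): the row `RowZ 7 G`;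
* `hasReal_of_invols` : a product of two involutions whose image in a permutation group has a cycle of length
  divisible by `p`.
* `rowZ_of_wit` : `|P| = p` and integer valued witnesses: the row.
-/

set_option autoImplicit false

namespace Cfsg.Agent.H852.RatB

open Cfsg Cfsg.Agent.H145.BR

universe u

theorem dvd_of_period {X : Type*} {σ : Equiv.Perm X} {p k : ℕ} (hp : p.Prime) {i : X}
    (h1 : (σ ^ (p * k)) i = i) (h2 : (σ ^ k) i ≠ i) : p ∣ orderOf σ := by
  by_contra hc
  apply h2
  have hd : Function.minimalPeriod σ i ∣ p * k := by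
    refine Function.IsPeriodicPt.minimalPeriod_dvd ?_
    show (σ^[p * k]) i = i
    rw [← Equiv.Perm.coe_pow]
    exact h1
  have ho : Function.minimalPeriod σ i ∣ orderOf σ := by
    refine Function.IsPeriodicPt.minimalPeriod_dvd ?_
    show (σ^[orderOf σ]) i = i
    rw [← Equiv.Perm.coe_pow, pow_orderOf_eq_one]
    rfl
  have hcop : Nat.Coprime (Function.minimalPeriod σ i) p := by
    refine ((Nat.Prime.coprime_iff_not_dvd hp).2 fun h => hc (h.trans ho)).symm
  have h3 : Function.minimalPeriod σ i ∣ k := hcop.dvd_of_dvd_mul_left hd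
  have h4 : Function.IsPeriodicPt σ k i := (Function.isPeriodicPt_iff_minimalPeriod_dvd).2 h3
  rw [Equiv.Perm.coe_pow]
  exact h4

/-- a real element of order divisible by `p` gives a real element of order `p` -/
theorem exists_real_prime {G : Type u} [Group G] [Finite G] {p : ℕ} (hp : p.Prime) {g : G} (hg : p ∣ orderOf g)
    (hr : IsConj g g⁻¹) : ∃ y : G, orderOf y = p ∧ IsConj y y⁻¹ := by
  obtain ⟨c, hc⟩ := isConj_iff.1 hr
  refine ⟨g ^ (orderOf g / p), orderOf_pow_orderOf_div (orderOf_pos g).ne' hg, isConj_iff.2 ⟨c, ?_⟩⟩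
  rw [← conj_pow, hc, inv_pow]

theorem exists_real_of_invols {G : Type u} [Group G] [Finite G] {p : ℕ} (hp : p.Prime) {X : Type*}
    (ρ : G →* Equiv.Perm X) {s t : G} (hs : s * s = 1) (ht : t * t = 1) {k : ℕ} {i : X}
    (h1 : ((ρ (s * t)) ^ (p * k)) i = i) (h2 : ((ρ (s * t)) ^ k) i ≠ i) :
    ∃ y : G, orderOf y = p ∧ IsConj y y⁻¹ := by
  refine exists_real_prime hp (g := s * t) ((dvd_of_period hp h1 h2).trans (orderOf_map_dvd ρ _)) ?_
  have hs' : s⁻¹ = s := inv_eq_of_mul_eq_one_right hs
  have ht' : t⁻¹ = t := inv_eq_of_mul_eq_one_right ht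
  rw [isConj_iff]
  refine ⟨s, ?_⟩
  rw [mul_inv_rev, hs', ht', ← mul_assoc, hs, one_mul]

/-- integer valued witnesses give the row, `|P| = p` -/
theorem rowZ_of_wit {G : Type u} [Group G] [Finite G] {p : ℕ} [hp : Fact p.Prime] (hp2 : p ≠ 2)
    (h5 : p ∣ Nat.card G) (h25 : ¬ p ^ 2 ∣ Nat.card G)
    (h : ∀ M : Ideal AlgInt, IsPModular p M → ∃ θ : IrrCharacter G, θ ∈ principalBlock M G ∧
      (θ : G → ℂ) ≠ (fun _ => 1) ∧ ∀ g, ∃ k : ℤ, (θ : G → ℂ) g = k) : RowZ p G := by
  obtain ⟨P⟩ : Nonempty (Sylow p G) := inferInstance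
  refine rowZ_of_ratB hp2 P (card_sylow_of_not_sq h5 h25 P) fun M hM => ?_
  obtain ⟨θ, h1, h2, h3⟩ := h M hM
  exact ⟨θ, h1, h2, fun g => by
    obtain ⟨k, hk⟩ := h3 g
    exact ⟨(k : ℚ), by rw [hk]; push_cast; rfl⟩⟩

end Cfsg.Agent.H852.RatB
end
end
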